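import Cfsg.Agent.Lib.PermComp.Simple

/-!
# Certificate of simplicity of the stabiliser of a dodecad, a point on it and a point off it
-/

namespace Cfsg.Agent.Lib.GolayCert.CertL211

open Cfsg.Agent.Lib.PermComp

def l211_n : Nat := nat_lit 24
def l211_w : Nat := nat_lit 5
def l211_mask : Nat := nat_lit 31
def l211_L : Nat := nat_lit 120
def l211_maskL : Nat := nat_lit 0xffffffffffffffffffffffffffffff
def l211_idc : Nat := nat_lit 0xbdab49ca307b9ac5a928398a418820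

def l211_G_T : List Nat := [nat_lit 0x12c76ac6777251033ceaa34ac20640, nat_lit 0xa4569c497718ec5aa8d43cb2a8e00]
def l211_G_prog : List (Nat × Nat × Nat) := [(nat_lit 1, nat_lit 1, nat_lit 0), (nat_lit 1, nat_lit 1, nat_lit 0), (nat_lit 0, nat_lit 3, nat_lit 2), (nat_lit 0, nat_lit 0, nat_lit 4), (nat_lit 0, nat_lit 0, nat_lit 4), (nat_lit 0, nat_lit 0, nat_lit 5), (nat_lit 0, nat_lit 5, nat_lit 5), (nat_lit 0, nat_lit 0, nat_lit 5), (nat_lit 0, nat_lit 0, nat_lit 2), (nat_lit 0, nat_lit 9, nat_lit 10), (nat_lit 0, nat_lit 0, nat_lit 11), (nat_lit 0, nat_lit 0, nat_lit 11), (nat_lit 0, nat_lit 0, nat_lit 13), (nat_lit 0, nat_lit 0, nat_lit 13), (nat_lit 0, nat_lit 0, nat_lit 14), (nat_lit 0, nat_lit 0, nat_lit 16), (nat_lit 0, nat_lit 0, nat_lit 16), (nat_lit 0, nat_lit 0, nat_lit 17), (nat_lit 0, nat_lit 17, nat_lit 0), (nat_lit 1, nat_lit 10, nat_lit 0), (nat_lit 0, nat_lit 11, nat_lit 1),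 (nat_lit 0, nat_lit 0, nat_lit 12), (nat_lit 0, nat_lit 2, nat_lit 2), (nat_lit 0, nat_lit 14, nat_lit 14), (nat_lit 0, nat_lit 0, nat_lit 5), (nat_lit 0, nat_lit 0, nat_lit 16), (nat_lit 0, nat_lit 0, nat_lit 17), (nat_lit 0, nat_lit 0, nat_lit 8), (nat_lit 0, nat_lit 0, nat_lit 9), (nat_lit 0, nat_lit 0, nat_lit 20), (nat_lit 0, nat_lit 0, nat_lit 11), (nat_lit 0, nat_lit 0, nat_lit 22), (nat_lit 0, nat_lit 9, nat_lit 0), (nat_lit 0, nat_lit 11, nat_lit 14), (nat_lit 0, nat_lit 0, nat_lit 25), (nat_lit 0, nat_lit 0, nat_lit 26), (nat_lit 0, nat_lit 0, nat_lit 17), (nat_lit 0, nat_lit 0, nat_lit 28), (nat_lit 0, nat_lit 0, nat_lit 19), (nat_lit 0, nat_lit 0, nat_lit 20), (nat_lit 0, nat_lit 0, nat_lit 31), (nat_lit 0, nat_lit 21, nat_lit 0)]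
def l211_G_s0 : Nat := nat_lit 0x12c76ac6777251033ceaa34ac20640
def l211_G_s1 : Nat := nat_lit 0xaac4d65c7279ad141d54724b324020
def l211_G_s2 : Nat := nat_lit 0x8d20d9106c43ad579d2b328b3b8820
def l211_G_s3 : Nat := nat_lit 0x9daadb8c8c5a6907a9c831cb190820
noncomputable def l211_G_lev0 : Core.Lev := Core.mkLev l211_n l211_w l211_mask l211_L l211_maskL l211_idc (nat_lit 1) [l211_G_s2, l211_G_s3, l211_G_s1, l211_G_s0] [(nat_lit 18, l211_G_s0, nat_lit 1), (nat_lit 4, l211_G_s2, nat_lit 18), (nat_lit 3, l211_G_s3, nat_lit 18), (nat_lit 23, l211_G_s1, nat_lit 18), (nat_lit 17, l211_G_s0, nat_lit 18), (nat_lit 19, l211_G_s2, nat_lit 4), (nat_lit 12, l211_G_s0, nat_lit 4), (nat_lit 21, l211_G_s1, nat_lit 23), (nat_lit 2, l211_G_s0, nat_lit 23), (nat_lit 16, l211_G_s3, nat_lit 12)]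
noncomputable def l211_G_lev1 : Core.Lev := Core.mkLev l211_n l211_w l211_mask l211_L l211_maskL l211_idc (nat_lit 2) [l211_G_s2, l211_G_s3, l211_G_s1] [(nat_lit 16, l211_G_s1, nat_lit 2), (nat_lit 12, l211_G_s2, nat_lit 16), (nat_lit 18, l211_G_s1, nat_lit 16), (nat_lit 21, l211_G_s2, nat_lit 12), (nat_lit 17, l211_G_s1, nat_lit 12), (nat_lit 4, l211_G_s2, nat_lit 18), (nat_lit 3, l211_G_s3, nat_lit 18), (nat_lit 23, l211_G_s1, nat_lit 18), (nat_lit 19, l211_G_s2, nat_lit 4)]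
noncomputable def l211_G_lev2 : Core.Lev := Core.mkLev l211_n l211_w l211_mask l211_L l211_maskL l211_idc (nat_lit 3) [l211_G_s2, l211_G_s3] [(nat_lit 23, l211_G_s2, nat_lit 3), (nat_lit 18, l211_G_s3, nat_lit 3), (nat_lit 17, l211_G_s2, nat_lit 23), (nat_lit 19, l211_G_s3, nat_lit 23), (nat_lit 4, l211_G_s2, nat_lit 18)]
noncomputable def l211_G_levels : List Core.Lev := [l211_G_lev0, l211_G_lev1, l211_G_lev2]

def l211_R0_T : List Nat := [nat_lit 0xbb64b1d5827aad1a38c83a4a49c020, nat_lit 0xbda26206a373d4c4352b3d0b380a40, nat_lit 0xabef494e11b196c69d28538a219020]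
def l211_R0_prog : List (Nat × Nat × Nat) := [(nat_lit 1, nat_lit 2, nat_lit 0), (nat_lit 1, nat_lit 2, nat_lit 0), (nat_lit 0, nat_lit 3, nat_lit 2), (nat_lit 0, nat_lit 0, nat_lit 3), (nat_lit 0, nat_lit 0, nat_lit 4), (nat_lit 0, nat_lit 0, nat_lit 5), (nat_lit 0, nat_lit 0, nat_lit 6), (nat_lit 0, nat_lit 0, nat_lit 8), (nat_lit 0, nat_lit 0, nat_lit 8), (nat_lit 0, nat_lit 0, nat_lit 9), (nat_lit 0, nat_lit 0, nat_lit 12), (nat_lit 0, nat_lit 10, nat_lit 0), (nat_lit 0, nat_lit 13, nat_lit 13), (nat_lit 0, nat_lit 0, nat_lit 15), (nat_lit 0, nat_lit 0, nat_lit 16), (nat_lit 0, nat_lit 0, nat_lit 17), (nat_lit 0, nat_lit 0, nat_lit 17), (nat_lit 0, nat_lit 0, nat_lit 19), (nat_lit 0, nat_lit 0, nat_lit 20), (nat_lit 0, nat_lit 18, nat_lit 0), (nat_lit 0, nat_lit 20, nat_lit 20), (nat_lit 0, nat_lit 0, nat_lit 21), (nat_lit 0, nat_lit 0, nat_lit 23), (nat_lit 0, nat_lit 0, nat_lit 23), (nat_lit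 0, nat_lit 0, nat_lit 24), (nat_lit 0, nat_lit 0, nat_lit 27), (nat_lit 0, nat_lit 0, nat_lit 26), (nat_lit 0, nat_lit 0, nat_lit 27), (nat_lit 0, nat_lit 27, nat_lit 26), (nat_lit 0, nat_lit 0, nat_lit 1), (nat_lit 0, nat_lit 9, nat_lit 32), (nat_lit 0, nat_lit 0, nat_lit 33), (nat_lit 0, nat_lit 0, nat_lit 33), (nat_lit 0, nat_lit 0, nat_lit 35), (nat_lit 0, nat_lit 0, nat_lit 35), (nat_lit 0, nat_lit 0, nat_lit 37), (nat_lit 0, nat_lit 0, nat_lit 38), (nat_lit 0, nat_lit 0, nat_lit 39), (nat_lit 0, nat_lit 0, nat_lit 39), (nat_lit 0, nat_lit 0, nat_lit 39), (nat_lit 1, nat_lit 28, nat_lit 0), (nat_lit 1, nat_lit 21, nat_lit 0), (nat_lit 1, nat_lit 2, nat_lit 0), (nat_lit 0, nat_lit 3, nat_lit 23), (nat_lit 0, nat_lit 0, nat_lit 14), (nat_lit 0, nat_lit 0, nat_lit 25), (nat_lit 0, nat_lit 0, nat_lit 16), (nat_lit 0, nat_lit 0, nat_lit 35), (nat_lit 0, nat_lit 0, nat_lit 36), (nat_lit 0, nat_lit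 0, nat_lit 19), (nat_lit 0, nat_lit 0, nat_lit 38), (nat_lit 0, nat_lit 0, nat_lit 21), (nat_lit 0, nat_lit 0, nat_lit 40), (nat_lit 0, nat_lit 0, nat_lit 41), (nat_lit 0, nat_lit 13, nat_lit 0), (nat_lit 0, nat_lit 13, nat_lit 12), (nat_lit 0, nat_lit 12, nat_lit 16), (nat_lit 0, nat_lit 0, nat_lit 37), (nat_lit 0, nat_lit 0, nat_lit 46), (nat_lit 0, nat_lit 0, nat_lit 47), (nat_lit 0, nat_lit 0, nat_lit 48), (nat_lit 0, nat_lit 0, nat_lit 31), (nat_lit 0, nat_lit 0, nat_lit 22), (nat_lit 0, nat_lit 7, nat_lit 0), (nat_lit 0, nat_lit 9, nat_lit 0)]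
def l211_R0_s0 : Nat := nat_lit 0xbb64b1d5827aad1a38c83a4a49c020
def l211_R0_s1 : Nat := nat_lit 0x61eb494e235a1577b52eb18a180880
def l211_R0_s2 : Nat := nat_lit 0x235941c650426d5599cf3a8b798820
def l211_R0_s3 : Nat := nat_lit 0x1b59624ef55ba904192f51cb288820
noncomputable def l211_R0_lev0 : Core.Lev := Core.mkLev l211_n l211_w l211_mask l211_L l211_maskL l211_idc (nat_lit 2) [l211_R0_s3, l211_R0_s2, l211_R0_s1, l211_R0_s0] [(nat_lit 16, l211_R0_s0, nat_lit 2), (nat_lit 21, l211_R0_s3, nat_lit 16), (nat_lit 3, l211_R0_s1, nat_lit 16), (nat_lit 12, l211_R0_s3, nat_lit 21), (nat_lit 18, l211_R0_s0, nat_lit 21), (nat_lit 17, l211_R0_s3, nat_lit 3), (nat_lit 19, l211_R0_s2, nat_lit 3), (nat_lit 23, l211_R0_s1, nat_lit 12), (nat_lit 4, l211_R0_s3, nat_lit 19), (nat_lit 1, l211_R0_s1, nat_lit 4)]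
noncomputable def l211_R0_lev1 : Core.Lev := Core.mkLev l211_n l211_w l211_mask l211_L l211_maskL l211_idc (nat_lit 1) [l211_R0_s3, l211_R0_s2, l211_R0_s1] [(nat_lit 4, l211_R0_s1, nat_lit 1), (nat_lit 18, l211_R0_s3, nat_lit 4), (nat_lit 23, l211_R0_s2, nat_lit 4), (nat_lit 19, l211_R0_s3, nat_lit 18), (nat_lit 17, l211_R0_s2, nat_lit 18), (nat_lit 3, l211_R0_s3, nat_lit 23), (nat_lit 12, l211_R0_s1, nat_lit 23), (nat_lit 16, l211_R0_s1, nat_lit 3), (nat_lit 21, l211_R0_s2, nat_lit 12)]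
noncomputable def l211_R0_lev2 : Core.Lev := Core.mkLev l211_n l211_w l211_mask l211_L l211_maskL l211_idc (nat_lit 3) [l211_R0_s3, l211_R0_s2] [(nat_lit 17, l211_R0_s3, nat_lit 3), (nat_lit 19, l211_R0_s2, nat_lit 3), (nat_lit 23, l211_R0_s3, nat_lit 17), (nat_lit 18, l211_R0_s2, nat_lit 17), (nat_lit 4, l211_R0_s3, nat_lit 19)]
noncomputable def l211_R0_levels : List Core.Lev := [l211_R0_lev0, l211_R0_lev1, l211_R0_lev2]

noncomputable def l211_R0_cert : Simple.RepCert := ⟨nat_lit 0x81aae088777d10c3a92d5d8a48ca60, [(nat_lit 0, nat_lit 0, nat_lit 0), (nat_lit 0, nat_lit 0, nat_lit 2), (nat_lit 0, nat_lit 0, nat_lit 2), (nat_lit 0, nat_lit 0, nat_lit 3), (nat_lit 0, nat_lit 0, nat_lit 5), (nat_lit 0, nat_lit 6, nat_lit 6), (nat_lit 0, nat_lit 0, nat_lit 7), (nat_lit 0, nat_lit 0, nat_lit 7), (nat_lit 0, nat_lit 0, nat_lit 8), (nat_lit 0, nat_lit 0, nat_lit 9), (nat_lit 0, nat_lit 10, nat_lit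 11), (nat_lit 0, nat_lit 0, nat_lit 11), (nat_lit 0, nat_lit 0, nat_lit 12), (nat_lit 0, nat_lit 0, nat_lit 13), (nat_lit 0, nat_lit 0, nat_lit 15), (nat_lit 0, nat_lit 0, nat_lit 16)], [(nat_lit 0xbb64b1d5827aad1a38c83a4a49c020, nat_lit 0x13af48c8707ad24b20e66a8a19d580), (nat_lit 0xbda26206a373d4c4352b3d0b380a40, nat_lit 0x93586254613d1e2426ce5a8b784660), (nat_lit 0xabef494e11b196c69d28538a219020, nat_lit 0x89d8f90ab0459c36d1265a8a1b9260)], l211_R0_prog, l211_R0_levels⟩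

def l211_R1_T : List Nat := [nat_lit 0x25af498e326a0c15256773cb583040, nat_lit 0xbb8478c8357a9a445a864aca364260]
def l211_R1_prog : List (Nat × Nat × Nat) := [(nat_lit 1, nat_lit 1, nat_lit 0), (nat_lit 1, nat_lit 1, nat_lit 0), (nat_lit 0, nat_lit 3, nat_lit 3), (nat_lit 0, nat_lit 0, nat_lit 4), (nat_lit 0, nat_lit 0, nat_lit 4), (nat_lit 0, nat_lit 0, nat_lit 6), (nat_lit 0, nat_lit 0, nat_lit 7), (nat_lit 0, nat_lit 0, nat_lit 7), (nat_lit 0, nat_lit 0, nat_lit 8), (nat_lit 0, nat_lit 0, nat_lit 10), (nat_lit 0, nat_lit 9, nat_lit 9), (nat_lit 0, nat_lit 0, nat_lit 9), (nat_lit 0, nat_lit 0, nat_lit 10), (nat_lit 0, nat_lit 0, nat_lit 3), (nat_lit 0, nat_lit 11, nat_lit 14), (nat_lit 0, nat_lit 0, nat_lit 16), (nat_lit 0, nat_lit 0, nat_lit 16), (nat_lit 0, nat_lit 0, nat_lit 18), (nat_lit 0, nat_lit 0, nat_lit 18), (nat_lit 0, nat_lit 0, nat_lit 19), (nat_lit 0, nat_lit 0, nat_lit 20),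 (nat_lit 0, nat_lit 20, nat_lit 19), (nat_lit 0, nat_lit 0, nat_lit 1), (nat_lit 0, nat_lit 7, nat_lit 24), (nat_lit 0, nat_lit 0, nat_lit 25), (nat_lit 0, nat_lit 0, nat_lit 25), (nat_lit 0, nat_lit 0, nat_lit 26), (nat_lit 0, nat_lit 0, nat_lit 27), (nat_lit 0, nat_lit 26, nat_lit 0), (nat_lit 1, nat_lit 0, nat_lit 0), (nat_lit 0, nat_lit 1, nat_lit 7), (nat_lit 0, nat_lit 0, nat_lit 17), (nat_lit 0, nat_lit 0, nat_lit 3), (nat_lit 0, nat_lit 0, nat_lit 4), (nat_lit 0, nat_lit 0, nat_lit 20), (nat_lit 0, nat_lit 0, nat_lit 12), (nat_lit 0, nat_lit 0, nat_lit 13), (nat_lit 0, nat_lit 23, nat_lit 8), (nat_lit 0, nat_lit 0, nat_lit 15), (nat_lit 0, nat_lit 0, nat_lit 10), (nat_lit 0, nat_lit 0, nat_lit 17), (nat_lit 0, nat_lit 11, nat_lit 11), (nat_lit 0, nat_lit 0, nat_lit 1)]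
def l211_R1_s0 : Nat := nat_lit 0x25af498e326a0c15256773cb583040
def l211_R1_s1 : Nat := nat_lit 0xbbe488104c6bad3a28cb49cb588c20
def l211_R1_s2 : Nat := nat_lit 0x8d20d9106c43ad579d2b328b3b8820
def l211_R1_s3 : Nat := nat_lit 0x235941c650426d5599cf3a8b798820
noncomputable def l211_R1_lev0 : Core.Lev := Core.mkLev l211_n l211_w l211_mask l211_L l211_maskL l211_idc (nat_lit 1) [l211_R1_s2, l211_R1_s3, l211_R1_s1, l211_R1_s0] [(nat_lit 2, l211_R1_s0, nat_lit 1), (nat_lit 3, l211_R1_s1, nat_lit 2), (nat_lit 12, l211_R1_s0, nat_lit 2), (nat_lit 23, l211_R1_s2, nat_lit 3), (nat_lit 19, l211_R1_s3, nat_lit 3), (nat_lit 17, l211_R1_s1, nat_lit 3), (nat_lit 16, l211_R1_s0, nat_lit 3), (nat_lit 21, l211_R1_s2, nat_lit 12), (nat_lit 4, l211_R1_s3, nat_lit 23), (nat_lit 18, l211_R1_s2, nat_lit 19)]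
noncomputable def l211_R1_lev1 : Core.Lev := Core.mkLev l211_n l211_w l211_mask l211_L l211_maskL l211_idc (nat_lit 2) [l211_R1_s2, l211_R1_s3, l211_R1_s1] [(nat_lit 3, l211_R1_s1, nat_lit 2), (nat_lit 23, l211_R1_s2, nat_lit 3), (nat_lit 19, l211_R1_s3, nat_lit 3), (nat_lit 17, l211_R1_s1, nat_lit 3), (nat_lit 4, l211_R1_s3, nat_lit 23), (nat_lit 18, l211_R1_s2, nat_lit 19), (nat_lit 16, l211_R1_s1, nat_lit 19), (nat_lit 21, l211_R1_s1, nat_lit 4), (nat_lit 12, l211_R1_s2, nat_lit 16)]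
noncomputable def l211_R1_lev2 : Core.Lev := Core.mkLev l211_n l211_w l211_mask l211_L l211_maskL l211_idc (nat_lit 3) [l211_R1_s2, l211_R1_s3] [(nat_lit 23, l211_R1_s2, nat_lit 3), (nat_lit 19, l211_R1_s3, nat_lit 3), (nat_lit 17, l211_R1_s2, nat_lit 23), (nat_lit 4, l211_R1_s3, nat_lit 23), (nat_lit 18, l211_R1_s2, nat_lit 19)]
noncomputable def l211_R1_levels : List Core.Lev := [l211_R1_lev0, l211_R1_lev1, l211_R1_lev2]

noncomputable def l211_R1_cert : Simple.RepCert := ⟨nat_lit 0x1982fade02751ac3aec8524a494660, [(nat_lit 0, nat_lit 1, nat_lit 1), (nat_lit 0, nat_lit 0, nat_lit 1), (nat_lit 0, nat_lit 0, nat_lit 2), (nat_lit 0, nat_lit 0, nat_lit 4), (nat_lit 0, nat_lit 0, nat_lit 4), (nat_lit 0, nat_lit 6, nat_lit 5), (nat_lit 0, nat_lit 0, nat_lit 6), (nat_lit 0, nat_lit 0, nat_lit 8), (nat_lit 0, nat_lit 0, nat_lit 9)], [(nat_lit 0x25af498e326a0c15256773cb583040, nat_lit 0x8282d60ee433e913a176724b395440),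 (nat_lit 0xbb8478c8357a9a445a864aca364260, nat_lit 0x126660d4835a1f7538edb50b283220)], l211_R1_prog, l211_R1_levels⟩

def l211_R2_T : List Nat := [nat_lit 0x25aebab2636a510798f4538b114820, nat_lit 0x93eaab860c3d124b35c832ca29c460]
def l211_R2_prog : List (Nat × Nat × Nat) := [(nat_lit 1, nat_lit 1, nat_lit 0), (nat_lit 1, nat_lit 1, nat_lit 0), (nat_lit 0, nat_lit 2, nat_lit 2), (nat_lit 0, nat_lit 0, nat_lit 4), (nat_lit 0, nat_lit 0, nat_lit 5), (nat_lit 0, nat_lit 0, nat_lit 6), (nat_lit 0, nat_lit 5, nat_lit 5), (nat_lit 0, nat_lit 0, nat_lit 5), (nat_lit 0, nat_lit 0, nat_lit 2), (nat_lit 0, nat_lit 9, nat_lit 10), (nat_lit 0, nat_lit 0, nat_lit 11), (nat_lit 0, nat_lit 0, nat_lit 12), (nat_lit 0, nat_lit 0, nat_lit 12), (nat_lit 0, nat_lit 0, nat_lit 14), (nat_lit 0, nat_lit 0, nat_lit 15), (nat_lit 0, nat_lit 0, nat_lit 16), (nat_lit 0, nat_lit 0, nat_lit 16), (nat_lit 0, nat_lit 0,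 nat_lit 18), (nat_lit 0, nat_lit 0, nat_lit 19), (nat_lit 0, nat_lit 0, nat_lit 20), (nat_lit 0, nat_lit 19, nat_lit 0), (nat_lit 1, nat_lit 12, nat_lit 0), (nat_lit 1, nat_lit 1, nat_lit 0), (nat_lit 0, nat_lit 14, nat_lit 14), (nat_lit 0, nat_lit 0, nat_lit 15), (nat_lit 0, nat_lit 0, nat_lit 4), (nat_lit 0, nat_lit 0, nat_lit 17), (nat_lit 0, nat_lit 0, nat_lit 6), (nat_lit 0, nat_lit 0, nat_lit 19), (nat_lit 0, nat_lit 0, nat_lit 8), (nat_lit 0, nat_lit 0, nat_lit 9), (nat_lit 0, nat_lit 0, nat_lit 22), (nat_lit 0, nat_lit 0, nat_lit 23), (nat_lit 0, nat_lit 8, nat_lit 24), (nat_lit 0, nat_lit 0, nat_lit 13), (nat_lit 0, nat_lit 0, nat_lit 14), (nat_lit 0, nat_lit 0, nat_lit 27), (nat_lit 0, nat_lit 15, nat_lit 14), (nat_lit 0, nat_lit 0, nat_lit 1)]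
def l211_R2_s0 : Nat := nat_lit 0x25aebab2636a510798f4538b114820
def l211_R2_s1 : Nat := nat_lit 0x9d246810614aed77a90e69cb1a8980
def l211_R2_s2 : Nat := nat_lit 0x9daadb8c8c5a6907a9c831cb190820
def l211_R2_s3 : Nat := nat_lit 0x1b59624ef55ba904192f51cb288820
noncomputable def l211_R2_lev0 : Core.Lev := Core.mkLev l211_n l211_w l211_mask l211_L l211_maskL l211_idc (nat_lit 2) [l211_R2_s3, l211_R2_s2, l211_R2_s1, l211_R2_s0] [(nat_lit 18, l211_R2_s0, nat_lit 2), (nat_lit 19, l211_R2_s3, nat_lit 18), (nat_lit 3, l211_R2_s2, nat_lit 18), (nat_lit 4, l211_R2_s1, nat_lit 18), (nat_lit 12, l211_R2_s0, nat_lit 18), (nat_lit 23, l211_R2_s2, nat_lit 19), (nat_lit 16, l211_R2_s1, nat_lit 19), (nat_lit 21, l211_R2_s0, nat_lit 19), (nat_lit 17, l211_R2_s3, nat_lit 3), (nat_lit 1, l211_R2_s1, nat_lit 16)]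
noncomputable def l211_R2_lev1 : Core.Lev := Core.mkLev l211_n l211_w l211_mask l211_L l211_maskL l211_idc (nat_lit 1) [l211_R2_s3, l211_R2_s2, l211_R2_s1] [(nat_lit 12, l211_R2_s1, nat_lit 1), (nat_lit 16, l211_R2_s3, nat_lit 12), (nat_lit 23, l211_R2_s1, nat_lit 12), (nat_lit 21, l211_R2_s3, nat_lit 16), (nat_lit 3, l211_R2_s3, nat_lit 23), (nat_lit 19, l211_R2_s2, nat_lit 23), (nat_lit 18, l211_R2_s1, nat_lit 21), (nat_lit 17, l211_R2_s3, nat_lit 3), (nat_lit 4, l211_R2_s3, nat_lit 19)]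
noncomputable def l211_R2_lev2 : Core.Lev := Core.mkLev l211_n l211_w l211_mask l211_L l211_maskL l211_idc (nat_lit 3) [l211_R2_s3, l211_R2_s2] [(nat_lit 17, l211_R2_s3, nat_lit 3), (nat_lit 18, l211_R2_s2, nat_lit 3), (nat_lit 23, l211_R2_s3, nat_lit 17), (nat_lit 4, l211_R2_s2, nat_lit 17), (nat_lit 19, l211_R2_s3, nat_lit 18)]
noncomputable def l211_R2_levels : List Core.Lev := [l211_R2_lev0, l211_R2_lev1, l211_R2_lev2]

noncomputable def l211_R2_cert : Simple.RepCert := ⟨nat_lit 0x13e56a92f34b90c3acca6d0b088460, [(nat_lit 0, nat_lit 1, nat_lit 1), (nat_lit 0, nat_lit 0, nat_lit 2), (nat_lit 0, nat_lit 0, nat_lit 2), (nat_lit 0, nat_lit 0, nat_lit 3), (nat_lit 0, nat_lit 0, nat_lit 4), (nat_lit 0, nat_lit 0, nat_lit 6), (nat_lit 0, nat_lit 3, nat_lit 7), (nat_lit 0, nat_lit 0, nat_lit 7), (nat_lit 0, nat_lit 0, nat_lit 9), (nat_lit 0, nat_lit 0, nat_lit 9), (nat_lit 0, nat_lit 0, nat_lit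 10), (nat_lit 0, nat_lit 0, nat_lit 12), (nat_lit 0, nat_lit 0, nat_lit 13), (nat_lit 0, nat_lit 0, nat_lit 13), (nat_lit 0, nat_lit 0, nat_lit 15), (nat_lit 0, nat_lit 0, nat_lit 15), (nat_lit 0, nat_lit 0, nat_lit 16)], [(nat_lit 0x25aebab2636a510798f4538b114820, nat_lit 0x8a20d60c92a59c151d6933ca2bcea0), (nat_lit 0x93eaab860c3d124b35c832ca29c460, nat_lit 0x1242d90c97721753be96328b364600)], l211_R2_prog, l211_R2_levels⟩

def l211_R3_T : List Nat := [nat_lit 0xa988a84c37b1d6243e8e4b4a364640, nat_lit 0x1222d65c83725f53ad46b50b090660]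
def l211_R3_prog : List (Nat × Nat × Nat) := [(nat_lit 1, nat_lit 1, nat_lit 0), (nat_lit 1, nat_lit 1, nat_lit 0), (nat_lit 0, nat_lit 3, nat_lit 2), (nat_lit 0, nat_lit 0, nat_lit 3), (nat_lit 0, nat_lit 0, nat_lit 5), (nat_lit 0, nat_lit 4, nat_lit 3), (nat_lit 0, nat_lit 0, nat_lit 5), (nat_lit 0, nat_lit 0, nat_lit 5), (nat_lit 0, nat_lit 0, nat_lit 3), (nat_lit 0, nat_lit 6, nat_lit 10), (nat_lit 0, nat_lit 0, nat_lit 11), (nat_lit 0, nat_lit 0, nat_lit 12), (nat_lit 0, nat_lit 0, nat_lit 12), (nat_lit 0, nat_lit 0, nat_lit 13), (nat_lit 0, nat_lit 0, nat_lit 15), (nat_lit 0, nat_lit 0, nat_lit 15), (nat_lit 0, nat_lit 0, nat_lit 17), (nat_lit 0, nat_lit 0, nat_lit 18), (nat_lit 1, nat_lit 9, nat_lit 0), (nat_lit 1, nat_lit 1, nat_lit 0), (nat_lit 0, nat_lit 11, nat_lit 11), (nat_lit 0, nat_lit 0, nat_lit 3), (nat_lit 0, nat_lit 0, nat_lit 13), (nat_lit 0, nat_lit 0, nat_lit 5), (nat_lit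 0, nat_lit 0, nat_lit 6), (nat_lit 0, nat_lit 0, nat_lit 7), (nat_lit 0, nat_lit 6, nat_lit 0), (nat_lit 0, nat_lit 18, nat_lit 9), (nat_lit 0, nat_lit 8, nat_lit 8), (nat_lit 0, nat_lit 1, nat_lit 11), (nat_lit 0, nat_lit 0, nat_lit 21), (nat_lit 0, nat_lit 0, nat_lit 22), (nat_lit 0, nat_lit 0, nat_lit 14), (nat_lit 0, nat_lit 0, nat_lit 15), (nat_lit 0, nat_lit 5, nat_lit 15), (nat_lit 0, nat_lit 0, nat_lit 1)]
def l211_R3_s0 : Nat := nat_lit 0xa988a84c37b1d6243e8e4b4a364640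
def l211_R3_s1 : Nat := nat_lit 0x8d88fbc2a241e836b94b324b393020
def l211_R3_s2 : Nat := nat_lit 0x952168de757a5ac41dcb518a320820
def l211_R3_s3 : Nat := nat_lit 0x8d20d9106c43ad579d2b328b3b8820
noncomputable def l211_R3_lev0 : Core.Lev := Core.mkLev l211_n l211_w l211_mask l211_L l211_maskL l211_idc (nat_lit 1) [l211_R3_s3, l211_R3_s2, l211_R3_s1, l211_R3_s0] [(nat_lit 18, l211_R3_s0, nat_lit 1), (nat_lit 4, l211_R3_s3, nat_lit 18), (nat_lit 23, l211_R3_s2, nat_lit 18), (nat_lit 16, l211_R3_s1, nat_lit 18), (nat_lit 19, l211_R3_s0, nat_lit 18), (nat_lit 3, l211_R3_s2, nat_lit 4), (nat_lit 17, l211_R3_s3, nat_lit 23), (nat_lit 21, l211_R3_s0, nat_lit 23), (nat_lit 12, l211_R3_s3, nat_lit 16), (nat_lit 2, l211_R3_s1, nat_lit 16)]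
noncomputable def l211_R3_lev1 : Core.Lev := Core.mkLev l211_n l211_w l211_mask l211_L l211_maskL l211_idc (nat_lit 2) [l211_R3_s3, l211_R3_s2, l211_R3_s1] [(nat_lit 12, l211_R3_s1, nat_lit 2), (nat_lit 21, l211_R3_s3, nat_lit 12), (nat_lit 3, l211_R3_s1, nat_lit 12), (nat_lit 16, l211_R3_s3, nat_lit 21), (nat_lit 4, l211_R3_s1, nat_lit 21), (nat_lit 23, l211_R3_s3, nat_lit 3), (nat_lit 18, l211_R3_s1, nat_lit 3), (nat_lit 19, l211_R3_s3, nat_lit 4), (nat_lit 17, l211_R3_s3, nat_lit 23)]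
noncomputable def l211_R3_lev2 : Core.Lev := Core.mkLev l211_n l211_w l211_mask l211_L l211_maskL l211_idc (nat_lit 3) [l211_R3_s3, l211_R3_s2] [(nat_lit 23, l211_R3_s3, nat_lit 3), (nat_lit 4, l211_R3_s2, nat_lit 3), (nat_lit 17, l211_R3_s3, nat_lit 23), (nat_lit 18, l211_R3_s2, nat_lit 23), (nat_lit 19, l211_R3_s3, nat_lit 4)]
noncomputable def l211_R3_levels : List Core.Lev := [l211_R3_lev0, l211_R3_lev1, l211_R3_lev2]

noncomputable def l211_R3_cert : Simple.RepCert := ⟨nat_lit 0x8188bab06245157b3cee6a4a19c640, [(nat_lit 0, nat_lit 0, nat_lit 0), (nat_lit 0, nat_lit 0, nat_lit 2), (nat_lit 0, nat_lit 0, nat_lit 2), (nat_lit 0, nat_lit 0, nat_lit 3), (nat_lit 0, nat_lit 0, nat_lit 4), (nat_lit 0, nat_lit 0, nat_lit 6), (nat_lit 0, nat_lit 7, nat_lit 7), (nat_lit 0, nat_lit 0, nat_lit 8), (nat_lit 0, nat_lit 0, nat_lit 8), (nat_lit 0, nat_lit 0, nat_lit 9)], [(nat_lit 0xa988a84c37b1d6243e8e4b4a364640,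 nat_lit 0xbba2b14c75b355043d26a1ca161240), (nat_lit 0x1222d65c83725f53ad46b50b090660, nat_lit 0x9a1625eb351dc2425ab7d0a38b240)], l211_R3_prog, l211_R3_levels⟩

def l211_P0_T : List Nat := [nat_lit 0x81aae088777d10c3a92d5d8a48ca60, nat_lit 0x8218e10637550d55bd363b4a41ce40]
def l211_P0_prog : List (Nat × Nat × Nat) := []
def l211_P0_s0 : Nat := nat_lit 0x81aae088777d10c3a92d5d8a48ca60
def l211_P0_s1 : Nat := nat_lit 0x8218e10637550d55bd363b4a41ce40
noncomputable def l211_P0_lev0 : Core.Lev := Core.mkLev l211_n l211_w l211_mask l211_L l211_maskL l211_idc (nat_lit 1) [l211_P0_s0, l211_P0_s1] [(nat_lit 19, l211_P0_s0, nat_lit 1), (nat_lit 18, l211_P0_s1, nat_lit 1), (nat_lit 2, l211_P0_s1, nat_lit 19)]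
noncomputable def l211_P0_levels : List Core.Lev := [l211_P0_lev0]

noncomputable def l211_P0_cert : Simple.SylCert := ⟨nat_lit 2, nat_lit 4, l211_P0_T, l211_P0_prog, l211_P0_levels, [nat_lit 0xbdab49ca307b9ac5a928398a418820], [(nat_lit 0x81aae088777d10c3a92d5d8a48ca60, nat_lit 0xbdab49ca307b9ac5a928398a418820, nat_lit 1, nat_lit 0x81aae088777d10c3a92d5d8a48ca60), (nat_lit 0x8218e10637550d55bd363b4a41ce40, nat_lit 0x1ae6814191a34c14b9e7558b524ae0, nat_lit 1, nat_lit 0x81aae088777d10c3a92d5d8a48ca60), (nat_lit 0xbb59494c7053ad53bd265a0a488440, nat_lit 0x61e299082442963a35e6758b59c2e0, nat_lit 1, nat_lit 0x81aae088777d10c3a92d5d8a48ca60)], [(nat_lit 1, nat_lit 1, nat_lit 0), (nat_lit 0, nat_lit 2, nat_lit 0), (nat_lit 1, nat_lit 2, nat_lit 0), (nat_lit 0, nat_lit 2, nat_lit 0), (nat_lit 0, nat_lit 1, nat_lit 0), (nat_lit 0, nat_lit 4, nat_lit 0), (nat_lit 0, nat_lit 5, nat_lit 0), (nat_lit 0,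 nat_lit 6, nat_lit 6)]⟩

def l211_P1_T : List Nat := [nat_lit 0x1982fade02751ac3aec8524a494660]
def l211_P1_prog : List (Nat × Nat × Nat) := []
def l211_P1_s0 : Nat := nat_lit 0x1982fade02751ac3aec8524a494660
noncomputable def l211_P1_lev0 : Core.Lev := Core.mkLev l211_n l211_w l211_mask l211_L l211_maskL l211_idc (nat_lit 1) [l211_P1_s0] [(nat_lit 19, l211_P1_s0, nat_lit 1), (nat_lit 21, l211_P1_s0, nat_lit 19)]
noncomputable def l211_P1_levels : List Core.Lev := [l211_P1_lev0]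

noncomputable def l211_P1_cert : Simple.SylCert := ⟨nat_lit 3, nat_lit 3, l211_P1_T, l211_P1_prog, l211_P1_levels, [nat_lit 0xbdab49ca307b9ac5a928398a418820], [(nat_lit 0x1982fade02751ac3aec8524a494660, nat_lit 0xbdab49ca307b9ac5a928398a418820, nat_lit 1, nat_lit 0x1982fade02751ac3aec8524a494660), (nat_lit 0x9266e08c51a3dac51cc85d8a4bc2a0, nat_lit 0x124349c64373d0c52ecd398a485ea0, nat_lit 1, nat_lit 0x1982fade02751ac3aec8524a494660)], [(nat_lit 1, nat_lit 1, nat_lit 0), (nat_lit 0, nat_lit 2, nat_lit 0), (nat_lit 1, nat_lit 2, nat_lit 0), (nat_lit 0, nat_lit 2, nat_lit 0), (nat_lit 0, nat_lit 3, nat_lit 0), (nat_lit 0, nat_lit 2, nat_lit 0), (nat_lit 0, nat_lit 5, nat_lit 0), (nat_lit 0, nat_lit 6, nat_lit 0), (nat_lit 0, nat_lit 7, nat_lit 0)]⟩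

def l211_P2_T : List Nat := [nat_lit 0x13e56a92f34b90c3acca6d0b088460]
def l211_P2_prog : List (Nat × Nat × Nat) := []
def l211_P2_s0 : Nat := nat_lit 0x13e56a92f34b90c3acca6d0b088460
noncomputable def l211_P2_lev0 : Core.Lev := Core.mkLev l211_n l211_w l211_mask l211_L l211_maskL l211_idc (nat_lit 1) [l211_P2_s0] [(nat_lit 3, l211_P2_s0, nat_lit 1), (nat_lit 17, l211_P2_s0, nat_lit 3), (nat_lit 23, l211_P2_s0, nat_lit 17), (nat_lit 2, l211_P2_s0, nat_lit 23)]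
noncomputable def l211_P2_levels : List Core.Lev := [l211_P2_lev0]

noncomputable def l211_P2_cert : Simple.SylCert := ⟨nat_lit 5, nat_lit 5, l211_P2_T, l211_P2_prog, l211_P2_levels, [nat_lit 0xbdab49ca307b9ac5a928398a418820], [(nat_lit 0x13e56a92f34b90c3acca6d0b088460, nat_lit 0xbdab49ca307b9ac5a928398a418820, nat_lit 1, nat_lit 0x13e56a92f34b90c3acca6d0b088460), (nat_lit 0xa48f940553394c69e8b458b3b8e20, nat_lit 0x1d21699235339ac52d2743cb2b8440, nat_lit 2, nat_lit 0x13e56a92f34b90c3acca6d0b088460), (nat_lit 0x19a0924c32a396c436c753cb5146e0, nat_lit 0xbdab49ca307b9ac5a928398a418820, nat_lit 2, nat_lit 0x13e56a92f34b90c3acca6d0b088460), (nat_lit 0x8d26685464b38ec521ed5a4b20dc40, nat_lit 0x1d21699235339ac52d2743cb2b8440, nat_lit 1, nat_lit 0x13e56a92f34b90c3acca6d0b088460)], [(nat_lit 1, nat_lit 1, nat_lit 0), (nat_lit 0, nat_lit 2, nat_lit 0), (nat_lit 0, nat_lit 1, nat_lit 1), (nat_lit 1, nat_lit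 3, nat_lit 0), (nat_lit 0, nat_lit 0, nat_lit 1), (nat_lit 0, nat_lit 4, nat_lit 0), (nat_lit 0, nat_lit 5, nat_lit 0), (nat_lit 0, nat_lit 6, nat_lit 0), (nat_lit 0, nat_lit 4, nat_lit 0)]⟩

def l211_P3_T : List Nat := [nat_lit 0x8188bab06245157b3cee6a4a19c640]
def l211_P3_prog : List (Nat × Nat × Nat) := []
def l211_P3_s0 : Nat := nat_lit 0x8188bab06245157b3cee6a4a19c640
noncomputable def l211_P3_lev0 : Core.Lev := Core.mkLev l211_n l211_w l211_mask l211_L l211_maskL l211_idc (nat_lit 1) [l211_P3_s0] [(nat_lit 18, l211_P3_s0, nat_lit 1), (nat_lit 12, l211_P3_s0, nat_lit 18), (nat_lit 23, l211_P3_s0, nat_lit 12), (nat_lit 16, l211_P3_s0, nat_lit 23), (nat_lit 2, l211_P3_s0, nat_lit 16), (nat_lit 17, l211_P3_s0, nat_lit 2), (nat_lit 3, l211_P3_s0, nat_lit 17), (nat_lit 19, l211_P3_s0, nat_lit 3), (nat_lit 21, l211_P3_s0, nat_lit 19), (nat_lit 4, l211_P3_s0, nat_lit 21)]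
noncomputable def l211_P3_levels : List Core.Lev := [l211_P3_lev0]

noncomputable def l211_P3_cert : Simple.SylCert := ⟨nat_lit 11, nat_lit 11, l211_P3_T, l211_P3_prog, l211_P3_levels, [nat_lit 0xbdab49ca307b9ac5a928398a418820], [(nat_lit 0x8188bab06245157b3cee6a4a19c640, nat_lit 0xbdab49ca307b9ac5a928398a418820, nat_lit 1, nat_lit 0x8188bab06245157b3cee6a4a19c640), (nat_lit 0x1243625e7172df0321b451cb2a8d80, nat_lit 0x61eae88c225a9a4b228933cb2bce00, nat_lit 2, nat_lit 0x8188bab06245157b3cee6a4a19c640), (nat_lit 0x89e460c2a3a59024b94b7b4ac24ee0, nat_lit 0x936e82418279e93b24cb538a38d420, nat_lit 1, nat_lit 0x8188bab06245157b3cee6a4a19c640), (nat_lit 0x1b58990893599d13d1f6428b70d600, nat_lit 0x61eae88c225a9a4b228933cb2bce00, nat_lit 1, nat_lit 0x8188bab06245157b3cee6a4a19c640), (nat_lit 0x9aae764435b26836ad0673cb091040, nat_lit 0x21aaa0de13b21b23a5d47aca364440, nat_lit 1, nat_lit 0x8188bab06245157b3cee6a4a19c640),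 (nat_lit 0xabe0db8e4431d73559c9a20a260620, nat_lit 0xbdab49ca307b9ac5a928398a418820, nat_lit 2, nat_lit 0x8188bab06245157b3cee6a4a19c640), (nat_lit 0x2204a84d814b6d579a875b8b1bc860, nat_lit 0x936e82418279e93b24cb538a38d420, nat_lit 2, nat_lit 0x8188bab06245157b3cee6a4a19c640), (nat_lit 0xba2f156f23a8c44256db50a383260, nat_lit 0x21aaa0de13b21b23a5d47aca364440, nat_lit 2, nat_lit 0x8188bab06245157b3cee6a4a19c640), (nat_lit 0x950688920c6bd2171eca32cb315ea0, nat_lit 0x6208e15e2369d534adf4b18b00caa0, nat_lit 1, nat_lit 0x8188bab06245157b3cee6a4a19c640), (nat_lit 0x62e6e18457520f2a34cf4d8b58c080, nat_lit 0x6208e15e2369d534adf4b18b00caa0, nat_lit 2, nat_lit 0x8188bab06245157b3cee6a4a19c640)], [(nat_lit 1, nat_lit 1, nat_lit 0), (nat_lit 0, nat_lit 2, nat_lit 0), (nat_lit 1, nat_lit 2, nat_lit 0), (nat_lit 0, nat_lit 2, nat_lit 0), (nat_lit 0, nat_lit 1, nat_lit 3), (nat_lit 0, nat_lit 4, nat_lit 0),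 (nat_lit 0, nat_lit 3, nat_lit 0), (nat_lit 0, nat_lit 6, nat_lit 0), (nat_lit 0, nat_lit 7, nat_lit 0), (nat_lit 0, nat_lit 8, nat_lit 0), (nat_lit 0, nat_lit 7, nat_lit 6), (nat_lit 0, nat_lit 10, nat_lit 0), (nat_lit 0, nat_lit 9, nat_lit 9), (nat_lit 0, nat_lit 12, nat_lit 0), (nat_lit 0, nat_lit 13, nat_lit 0), (nat_lit 0, nat_lit 14, nat_lit 0), (nat_lit 0, nat_lit 15, nat_lit 0)]⟩

noncomputable def l211_reps : List Simple.RepCert := [l211_R0_cert, l211_R1_cert, l211_R2_cert, l211_R3_cert]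
noncomputable def l211_syls : List Simple.SylCert := [l211_P0_cert, l211_P1_cert, l211_P2_cert, l211_P3_cert]

set_option maxRecDepth 1000000 in
theorem l211_G_ok : Core.checkAll l211_n l211_w l211_mask l211_L l211_maskL l211_idc l211_G_T l211_G_prog l211_G_levels = true := by decide +kernel

theorem l211_order : Core.orderC l211_G_levels = 660 := by decide +kernel

set_option maxRecDepth 1000000 in
theorem l211_reps_ok : Core.allL (Simple.repCheck l211_n l211_w l211_mask l211_L l211_maskL l211_idc l211_G_T l211_G_levels 660) l211_reps = true := by decide +kernel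

set_option maxRecDepth 1000000 in
theorem l211_syls_ok : Core.allL (Simple.sylCheck l211_n l211_w l211_mask l211_L l211_maskL l211_idc l211_G_T l211_G_levels 660 (l211_reps.map (·.r))) l211_syls = true := by decide +kernel

theorem l211_prod : (l211_syls.map (·.pk)).prod = 660 := by decide +kernel

end Cfsg.Agent.Lib.GolayCert.CertL211
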